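import Cfsg.Agent.H478.HN3E
import Cfsg.Agent.H473.SN.Base

/-!
# S3831: the row `G3` of HN (helper991)

The elements of order three of `O(C(X3))` commute with an involution: `C(X3) ∩ C(S3)` (order 360) has two orbits of length 40 on
the elements of order three of `O(C(X3)) / ⟨X3⟩` (at most 80 elements), represented by elements of `A12`.
-/

set_option autoImplicit false

namespace Cfsg.Agent.H991.SN.HN

open Subgroup Cfsg
open Cfsg.Agent Cfsg.Agent.H459.Rad Cfsg.Agent.H839.Rad Cfsg.Agent.SignalizersComponents.ComponentExists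
open Cfsg.Agent.CpAutHN
open Cfsg.Agent.CpAutHN.Alt
open Cfsg.Agent.CpAutHN.Tr
open Cfsg.Agent.CpAutHN.Pairs
open Cfsg.Agent.KFacts.HN (A5 PP mem_PP card_PP)
open Cfsg.Agent.H569.HNThree (card_G finite_G MM ss order_ss S3X3 comm_core index_X3 mk mk_core sg sg_mem)
open Cfsg.Agent.H478.HNThree
open Cfsg.Agent.H21.SN (G3 RN NoS3)
open Equiv.Perm (mem_alternatingGroup)

attribute [local instance] Cfsg.Agent.H569.HNThree.finite_G

/-! ### the order of `KK` -/

theorem card_A5 : Nat.card A5 = 60 := by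
  rw [Nat.card_eq_fintype_card]
  decide +kernel

/-- `S3` in `KK` -/
noncomputable def sK : KK := ⟨ss, mem_centralizer_singleton_iff.2 rfl⟩
/-- `X3` in `KK` -/
noncomputable def xK : KK := ⟨xx, mem_centralizer_singleton_iff.2 (xx_comm ss).symm⟩

theorem κ_central {z : KK} (h : ∀ k : KK, k * z = z * k) : κ z = 1 := by
  have h1 : κ z ∈ center A5 := mem_center_iff.2 fun a => by
    obtain ⟨k, rfl⟩ := κ_surj a
    rw [← map_mul, h, map_mul]
  rwa [center_A5, mem_bot] at h1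

theorem κ_sK : κ sK = 1 := κ_central fun k => Subtype.ext (mem_centralizer_singleton_iff.1 k.2)
theorem κ_xK : κ xK = 1 := κ_central fun k => Subtype.ext (xx_comm (k : MM))

theorem order_sK : orderOf sK = 2 := by rw [← Subgroup.orderOf_coe]; exact order_ss
theorem order_xK : orderOf xK = 3 := by rw [← Subgroup.orderOf_coe]; exact order_xx

theorem card_ker : Nat.card κ.ker = 6 := by
  have hx3 : xK ^ 3 = 1 := by rw [← order_xK, pow_orderOf_eq_one]
  refine le_antisymm ?_ (Nat.le_of_dvd Nat.card_pos ?_)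
  · let f : Fin 2 × Fin 3 → κ.ker := fun p => ⟨sK ^ (p.1 : ℕ) * xK ^ (p.2 : ℕ), by
      rw [MonoidHom.mem_ker, map_mul, map_pow, map_pow, κ_sK, κ_xK, one_pow, one_pow, one_mul]⟩
    have hf : Function.Surjective f := by
      rintro ⟨k, hk⟩
      obtain ⟨i, h⟩ := ker_κ (MonoidHom.mem_ker.1 hk)
      have e : xK ^ i = xK ^ (i % 3) := by
        conv_lhs => rw [← Nat.div_add_mod i 3, pow_add, pow_mul, hx3, one_pow, one_mul]
      rcases h with h | h
      · refine ⟨(0, ⟨i % 3, Nat.mod_lt _ (by norm_num)⟩), Subtype.ext ?_⟩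
        change sK ^ 0 * xK ^ (i % 3) = k
        rw [pow_zero, one_mul, ← e]
        exact Subtype.ext (Subtype.ext h.symm)
      · refine ⟨(1, ⟨i % 3, Nat.mod_lt _ (by norm_num)⟩), Subtype.ext ?_⟩
        change sK ^ 1 * xK ^ (i % 3) = k
        rw [pow_one, ← e]
        exact Subtype.ext (Subtype.ext h.symm)
    calc Nat.card κ.ker ≤ Nat.card (Fin 2 × Fin 3) := Nat.card_le_card_of_surjective f hf
      _ = 6 := by rw [Nat.card_prod, Nat.card_fin, Nat.card_fin]
  · change 2 * 3 ∣ _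
    refine Nat.Coprime.mul_dvd_of_dvd_of_dvd (by norm_num) ?_ ?_
    · have := orderOf_dvd_natCard (⟨sK, MonoidHom.mem_ker.2 κ_sK⟩ : κ.ker)
      rwa [Subgroup.orderOf_mk, order_sK] at this
    · have := orderOf_dvd_natCard (⟨xK, MonoidHom.mem_ker.2 κ_xK⟩ : κ.ker)
      rwa [Subgroup.orderOf_mk, order_xK] at this

theorem card_KK : Nat.card KK = 360 := by
  have h := κ.ker.card_mul_index
  rw [card_ker, Subgroup.index_ker, MonoidHom.range_eq_top.2 κ_surj, card_top, card_A5] at h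
  exact h.symm

theorem inf_eq : OO ⊓ KK = zpowers xx := by
  apply le_antisymm
  · rintro o ⟨ho, hk⟩
    exact inf_OO ho (mem_centralizer_singleton_iff.1 hk)
  · refine le_inf Z_le ?_
    rw [zpowers_le]
    exact mem_centralizer_singleton_iff.2 (xx_comm ss).symm

/-- the order of `C(X3)` -/
theorem card_MM : Nat.card MM = Nat.card Ob * 360 := by
  have h1 := OO.card_mul_index
  have h2 : OO.index = 120 := by
    have hsup : OO ⊔ KK = ⊤ := H569.KleinIso.core_sup order_ss comm_core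
    have h3 := relIndex_mul_relIndex ⊥ (zpowers xx) KK bot_le (inf_eq ▸ inf_le_right)
    rw [relIndex_bot_left, relIndex_bot_left, card_KK, Nat.card_zpowers, order_xx] at h3
    rw [← relIndex_top_right, ← hsup, relIndex_sup_left, ← inf_relIndex_right, inf_eq]
    omega
  have h3 := relIndex_mul_relIndex ⊥ (zpowers xx) OO bot_le Z_le
  have h4 : (zpowers xx).relIndex OO = Nat.card Ob := by
    have h5 := Subgroup.relIndex_ker OO q
    rwa [QuotientGroup.ker_mk'] at h5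
  rw [relIndex_bot_left, relIndex_bot_left, Nat.card_zpowers, order_xx, h4] at h3
  rw [← h1, h2, ← h3]
  ring

theorem not_dvd_Ob : ¬ 3 ^ 5 ∣ Nat.card Ob := by
  intro h
  have h1 : Nat.card MM ∣ 273030912000000 := card_G ▸ Subgroup.card_subgroup_dvd_card MM
  rw [card_MM] at h1
  have h2 := (Nat.mul_dvd_mul_right h 360).trans h1
  norm_num at h2

theorem noS3_MM : NoS3 MM := by
  have h4 : ¬ 2 ^ 4 ∣ Nat.card MM := by
    intro h
    rw [card_MM] at h
    have h1 : 2 ∣ Nat.card Ob := by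
      have h2 : 2 * 8 ∣ (Nat.card Ob * 45) * 8 := by
        have : Nat.card Ob * 45 * 8 = Nat.card Ob * 360 := by ring
        rw [this]
        exact h
      have h3 := Nat.dvd_of_mul_dvd_mul_right (by norm_num) h2
      exact (Nat.Coprime.dvd_of_dvd_mul_right (by norm_num) h3)
    have h2 : Nat.card Ob ∣ Nat.card OO := OO.card_map_dvd q
    exact (Nat.not_even_iff_odd.2 odd_OO) (even_iff_two_dvd.2 (h1.trans h2))
  refine Cfsg.Agent.H473.SN.noS3_card ?_ ?_ ?_ <;>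
  · intro h
    exact h4 (dvd_trans (by norm_num) h)

/-! ### elements of order three of the quotient -/

theorem Ob_comm {a b : MM ⧸ zpowers xx} (ha : a ∈ Ob) (hb : b ∈ Ob) : a * b = b * a :=
  congrArg Subtype.val (φs_fpf.commute_all_of_involutive φs_inv ⟨a, ha⟩ ⟨b, hb⟩).eq

/-- the elements of order three -/
noncomputable def E : Subgroup (MM ⧸ zpowers xx) where
  carrier := {g | g ∈ Ob ∧ g ^ 3 = 1}
  mul_mem' := by
    rintro a b ⟨ha, ha3⟩ ⟨hb, hb3⟩
    exact ⟨mul_mem ha hb, by rw [(show Commute a b from Ob_comm ha hb).mul_pow, ha3, hb3, one_mul]⟩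
  one_mem' := ⟨one_mem _, one_pow _⟩
  inv_mem' := by
    rintro a ⟨ha, ha3⟩
    exact ⟨inv_mem ha, by rw [inv_pow, ha3, inv_one]⟩

theorem E_conj (g : MM ⧸ zpowers xx) {e : MM ⧸ zpowers xx} (he : e ∈ E) : g * e * g⁻¹ ∈ E :=
  ⟨Ob_normal.conj_mem _ he.1 g, by rw [conj_pow, he.2, mul_one, mul_inv_cancel]⟩

theorem card_E : Nat.card E ∣ 81 := by
  have : Fact (Nat.Prime 3) := ⟨Nat.prime_three⟩
  have hp : IsPGroup 3 E := fun e => ⟨1, Subtype.ext (by rw [pow_one]; exact e.2.2)⟩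
  obtain ⟨n, hn⟩ := IsPGroup.iff_card.1 hp
  have hle : E ≤ Ob := fun e he => he.1
  have h1 : Nat.card E ∣ Nat.card Ob := card_dvd_of_le hle
  have h4 : n ≤ 4 := by
    by_contra h
    exact not_dvd_Ob ((pow_dvd_pow 3 (by omega)).trans (hn ▸ h1))
  rw [hn]
  exact pow_dvd_pow 3 h4

/-- the stabilizer -/
noncomputable def St (v : MM ⧸ zpowers xx) : Subgroup KK := (centralizer ({v} : Set (MM ⧸ zpowers xx))).comap (q.comp KK.subtype)

theorem mem_St {v : MM ⧸ zpowers xx} {k : KK} : k ∈ St v ↔ q k * v = v * q k := mem_centralizer_singleton_iff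

theorem eq_sK {k : KK} (h : orderOf k = 2) : k = sK := by
  apply Subtype.ext
  apply Subtype.ext
  exact t1_x3.unique (by rw [Subgroup.orderOf_coe, Subgroup.orderOf_coe]; exact h)
    (mem_centralizer_singleton_iff.1 (k : MM).2) (KK_comm k)

theorem eq_one_of_ss {v : MM ⧸ zpowers xx} (hv : v ∈ Ob) (h : q ss * v = v * q ss) : v = 1 := by
  have h1 : φs ⟨v, hv⟩ = ⟨v, hv⟩ := Subtype.ext (by rw [φs_coe]; exact mul_inv_eq_iff_eq_mul.2 h)
  exact congrArg Subtype.val (φs_fpf _ h1)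

theorem odd_St {v : MM ⧸ zpowers xx} (hv : v ∈ Ob) (h1 : v ≠ 1) : ¬ 2 ∣ Nat.card (St v) := by
  intro h
  have : Fact (Nat.Prime 2) := ⟨Nat.prime_two⟩
  obtain ⟨k, hk⟩ := exists_prime_orderOf_dvd_card' 2 h
  have h2 : (k : KK) = sK := eq_sK (by rw [Subgroup.orderOf_coe, hk])
  have h3 := mem_St.1 k.2
  rw [h2] at h3
  exact h1 (eq_one_of_ss hv h3)

/-- elements of order 5 acting on groups of order at most 81 with a nontrivial fixed point -/
theorem five_comm {H : Type*} [Group H] {U : Subgroup H} {f v : H} (hU : Nat.card U ∣ 81) (hf : f ^ 5 = 1)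
    (hn : ∀ u ∈ U, f * u * f⁻¹ ∈ U) (hv : v ∈ U) (hv1 : v ≠ 1) (hc : f * v = v * f) : ∀ u ∈ U, f * u = u * f := by
  classical
  have hfin : Finite U := Nat.finite_of_card_ne_zero (fun h => by rw [h] at hU; norm_num at hU)
  have : Fact (Nat.Prime 5) := ⟨Nat.prime_five⟩
  have : Fintype U := Fintype.ofFinite U
  let σ : Function.End U := fun u => ⟨f * u * f⁻¹, hn u u.2⟩
  have hσ : ∀ (n : ℕ) (u : U), (((σ ^ n) u : U) : H) = f ^ n * u * (f ^ n)⁻¹ := by
    intro n
    induction n with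
    | zero =>
      intro u
      rw [pow_zero, pow_zero, one_mul, inv_one, mul_one]
      rfl
    | succ n ih =>
      intro u
      have h1 : (σ ^ (n + 1)) u = (σ ^ n) (σ u) := by rw [pow_succ]; rfl
      rw [h1, ih, pow_succ]
      change f ^ n * (f * u * f⁻¹) * (f ^ n)⁻¹ = _
      group
  have h5 : σ ^ 5 ^ 1 = 1 := by
    funext u
    apply Subtype.ext
    rw [pow_one, hσ, hf, one_mul, inv_one, mul_one]
    rfl
  have h1 := Equiv.Perm.card_fixedPoints_modEq (p := 5) (n := 1) h5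
  let V : Subgroup U := (centralizer ({f} : Set H)).subgroupOf U
  have h2 : Fintype.card (Function.fixedPoints σ) = Nat.card V := by
    rw [Nat.card_eq_fintype_card]
    refine Fintype.card_congr (Equiv.subtypeEquivRight fun u => ?_)
    rw [Function.mem_fixedPoints_iff, mem_subgroupOf, mem_centralizer_singleton_iff]
    constructor
    · intro h
      have h3 : f * u * f⁻¹ = u := congrArg Subtype.val h
      exact (mul_inv_eq_iff_eq_mul.1 h3).symm
    · intro h
      apply Subtype.ext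
      exact mul_inv_eq_iff_eq_mul.2 h.symm
  rw [← Nat.card_eq_fintype_card, h2] at h1
  have hV1 : Nat.card V ≠ 1 := by
    intro h
    have h3 := Subgroup.eq_bot_of_card_eq V h
    have h4 : (⟨v, hv⟩ : U) ∈ V := mem_subgroupOf.2 (mem_centralizer_singleton_iff.2 hc.symm)
    rw [h3, mem_bot] at h4
    exact hv1 (congrArg Subtype.val h4)
  have h3 : ∀ a ∈ Nat.divisors 81, ∀ b ∈ Nat.divisors 81, b ≠ 1 → b ∣ a → a ≡ b [MOD 5] → a = b := by decide
  have h4 := h3 _ (Nat.mem_divisors.2 ⟨hU, by norm_num⟩) _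
    (Nat.mem_divisors.2 ⟨(Subgroup.card_subgroup_dvd_card V).trans hU, by norm_num⟩) hV1
    (Subgroup.card_subgroup_dvd_card V) h1
  have h6 : V = ⊤ := Subgroup.eq_top_of_card_eq V h4.symm
  intro u hu
  have h7 : (⟨u, hu⟩ : U) ∈ V := by rw [h6]; trivial
  exact (mem_centralizer_singleton_iff.1 h7).symm

theorem five_St {v : MM ⧸ zpowers xx} (hv : v ∈ E) (h1 : v ≠ 1) : ¬ 5 ∣ Nat.card (St v) := by
  intro h
  have : Fact (Nat.Prime 5) := ⟨Nat.prime_five⟩
  have : Fact (Nat.Prime 2) := ⟨Nat.prime_two⟩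
  obtain ⟨f, hf⟩ := exists_prime_orderOf_dvd_card' 5 h
  have hfK : orderOf (f : KK) = 5 := by rw [Subgroup.orderOf_coe, hf]
  have hf5 : (q (f : KK) : MM ⧸ zpowers xx) ^ 5 = 1 := by
    rw [← map_pow, ← Subgroup.coe_pow, ← hfK, pow_orderOf_eq_one, Subgroup.coe_one, map_one]
  have hcen : ∀ u ∈ E, q (f : KK) * u = u * q (f : KK) :=
    five_comm card_E hf5 (fun u hu => E_conj _ hu) hv h1 (mem_St.1 f.2)
  have hE : E.Normal := ⟨fun e he g => E_conj g he⟩
  let N : Subgroup KK := (centralizer (E : Set (MM ⧸ zpowers xx))).comap (q.comp KK.subtype)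
  have hN : N.Normal := inferInstance
  have hfN : (f : KK) ∈ N := mem_centralizer_iff.2 fun u hu => (hcen u hu).symm
  have hM : (N.map κ).Normal := hN.map κ κ_surj
  have hsim := simple_A5
  rcases hM.eq_bot_or_eq_top with h2 | h2
  · have h3 : (f : KK) ∈ κ.ker := by
      have h4 : κ f ∈ N.map κ := mem_map_of_mem κ hfN
      rw [h2, mem_bot] at h4
      exact MonoidHom.mem_ker.2 h4
    have h4 := orderOf_dvd_natCard (⟨f, h3⟩ : κ.ker)
    rw [Subgroup.orderOf_mk, hfK, card_ker] at h4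
    omega
  · have h3 : Nat.card ↥(N.map κ) ∣ Nat.card N := N.card_map_dvd κ
    rw [h2, card_top, card_A5] at h3
    obtain ⟨k, hk⟩ := exists_prime_orderOf_dvd_card' 2 (dvd_trans (by norm_num) h3)
    have h4 : (k : KK) = sK := eq_sK (by rw [Subgroup.orderOf_coe, hk])
    have h5 : v * q ((k : KK) : MM) = q ((k : KK) : MM) * v := mem_centralizer_iff.1 k.2 v hv
    rw [h4] at h5
    exact h1 (eq_one_of_ss hv.1 h5.symm)

theorem index_St {v : MM ⧸ zpowers xx} (hv : v ∈ E) (h1 : v ≠ 1) : 40 ≤ (St v).index := by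
  have h := (St v).card_mul_index
  rw [card_KK] at h
  have h2 := odd_St hv.1 h1
  have h5 := five_St hv h1
  have h9 : Nat.card (St v) ∣ 9 := by
    have h360 : Nat.card (St v) ∣ 9 * 40 := ⟨_, h.symm⟩
    have hc2 : Nat.Coprime (Nat.card (St v)) 2 := (Nat.coprime_comm.1 ((Nat.Prime.coprime_iff_not_dvd Nat.prime_two).2 h2))
    have hc5 : Nat.Coprime (Nat.card (St v)) 5 := (Nat.coprime_comm.1 ((Nat.Prime.coprime_iff_not_dvd Nat.prime_five).2 h5))
    have hc : Nat.Coprime (Nat.card (St v)) (2 ^ 3 * 5) := Nat.Coprime.mul_right (hc2.pow_right 3) hc5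
    exact Nat.Coprime.dvd_of_dvd_mul_right hc h360
  have h10 := Nat.le_of_dvd (by norm_num) h9
  by_contra hlt
  push Not at hlt
  nlinarith

/-- the orbit -/
noncomputable def Or (v : MM ⧸ zpowers xx) : Set (MM ⧸ zpowers xx) := Set.range fun k : KK => q k * v * (q k)⁻¹

theorem card_Or {v : MM ⧸ zpowers xx} (hv : v ∈ E) (h1 : v ≠ 1) : 40 ≤ (Or v).ncard := by
  refine (index_St hv h1).trans ?_
  have hfin : Finite (MM ⧸ zpowers xx) := inferInstance
  change Nat.card (KK ⧸ St v) ≤ Nat.card (Or v)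
  refine Nat.card_le_card_of_injective (fun c : KK ⧸ St v => (⟨q c.out * v * (q c.out)⁻¹, ⟨c.out, rfl⟩⟩ : Or v)) ?_
  intro c d hcd
  have h2 : q (c.out : MM) * v * (q (c.out : MM))⁻¹ = q (d.out : MM) * v * (q (d.out : MM))⁻¹ := congrArg Subtype.val hcd
  rw [← QuotientGroup.out_eq' c, ← QuotientGroup.out_eq' d, QuotientGroup.eq, mem_St]
  have h3 : (q (((c.out)⁻¹ * d.out : KK) : MM) : MM ⧸ zpowers xx) = (q (c.out : MM))⁻¹ * q (d.out : MM) := by
    rw [Subgroup.coe_mul, Subgroup.coe_inv, map_mul, map_inv]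
  rw [h3]
  generalize (q (c.out : MM) : MM ⧸ zpowers xx) = a at h2 ⊢
  generalize (q (d.out : MM) : MM ⧸ zpowers xx) = b at h2 ⊢
  calc a⁻¹ * b * v = a⁻¹ * (b * v * b⁻¹) * b := by group
    _ = a⁻¹ * (a * v * a⁻¹) * b := by rw [h2]
    _ = v * (a⁻¹ * b) := by group

theorem Or_sub {v : MM ⧸ zpowers xx} (hv : v ∈ E) (h1 : v ≠ 1) : Or v ⊆ (E : Set (MM ⧸ zpowers xx)) \ {1} := by
  rintro _ ⟨k, rfl⟩
  refine ⟨E_conj _ hv, fun h => h1 ?_⟩
  have h2 : q (k : MM) * v * (q (k : MM))⁻¹ = 1 := h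
  rwa [conj_eq_one_iff] at h2

/-! ### the two representatives -/

theorem xx_coe (n : ℕ) : ((xx ^ n : MM) : G) = Φ ⟨x3 ^ n, pow_mem x3_mem n⟩ := by
  have h : (⟨x3 ^ n, pow_mem x3_mem n⟩ : A12) = (⟨x3, x3_mem⟩ : A12) ^ n := rfl
  rw [Subgroup.coe_pow, h, map_pow]
  rfl

theorem mk_coe {a : Equiv.Perm (Fin 12)} (ha : a ∈ alternatingGroup (Fin 12)) (n : ℕ) :
    Φ ⟨a, ha⟩ * Φ ⟨x3 ^ n, pow_mem x3_mem n⟩ = Φ ⟨a * x3 ^ n, mul_mem ha (pow_mem x3_mem n)⟩ := by
  rw [← map_mul]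
  rfl

theorem mod_three {z : MM} (hz : z ∈ zpowers xx) : ∃ n : ℕ, n < 3 ∧ z = xx ^ n := by
  obtain ⟨n, rfl⟩ := mem_zpowers_iff.1 hz
  have h3 : (0 : ℤ) < 3 := by norm_num
  refine ⟨(n % 3).toNat, ?_, ?_⟩
  · have h1 := Int.emod_lt_of_pos n h3
    have h2 := Int.emod_nonneg n h3.ne'
    omega
  · rw [← zpow_natCast, Int.toNat_of_nonneg (Int.emod_nonneg n h3.ne')]
    have h4 := zpow_mod_orderOf xx n
    rw [order_xx] at h4
    exact h4.symm

/-- an even permutation commuting with an involution -/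
theorem invol_of_perm {y v : Equiv.Perm (Fin 12)} (hy : y ∈ alternatingGroup (Fin 12)) (hv : v ∈ alternatingGroup (Fin 12))
    (v2 : v * v = 1) (v1 : v ≠ 1) (c1 : y * v = v * y) :
    ∃ t : G, orderOf t = 2 ∧ Φ ⟨y, hy⟩ * t = t * Φ ⟨y, hy⟩ := ⟨Φ ⟨v, hv⟩, orderOf_two hv v2 v1, comm_of hy hv c1⟩

/-- commutes with an involution -/
def Good (x : G) : Prop := ∃ t : G, orderOf t = 2 ∧ x * t = t * x

theorem Good.conj {x : G} (h : Good x) (c : G) : Good (c * x * c⁻¹) := by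
  obtain ⟨t, h1, h2⟩ := h
  refine ⟨c * t * c⁻¹, by rw [← MulAut.conj_apply, MulEquiv.orderOf_eq]; exact h1, ?_⟩
  calc c * x * c⁻¹ * (c * t * c⁻¹) = c * (x * t) * c⁻¹ := by group
    _ = c * (t * x) * c⁻¹ := by rw [h2]
    _ = _ := by group

theorem Good.of_conj {x : G} (c : G) (h : Good (c * x * c⁻¹)) : Good x := by
  have := h.conj c⁻¹
  have e : c⁻¹ * (c * x * c⁻¹) * c⁻¹⁻¹ = x := by group
  rwa [e] at this

theorem good_X3 : Good X3 := ⟨S3, order_S3, S3X3.symm⟩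

/-- the conjugates of `X3` in `A12` -/
theorem conj_X3_of_perm {y p : Equiv.Perm (Fin 12)} (hy : y ∈ alternatingGroup (Fin 12)) (hp : p ∈ alternatingGroup (Fin 12))
    (h : p * x3 * p⁻¹ = y) : ∃ c : G, c * X3 * c⁻¹ = Φ ⟨y, hy⟩ :=
  ⟨Φ ⟨p, hp⟩, H569.HNThree.conj_Φ hp x3_mem hy h⟩

theorem gg_conj (n : ℕ) (hn : n < 3) : ∃ c : G, c * X3 * c⁻¹ = ((gg * xx ^ n : MM) : G) := by
  have e : ((gg * xx ^ n : MM) : G) = Φ ⟨sg * x3 ^ n, mul_mem sg_mem (pow_mem x3_mem n)⟩ := by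
    rw [Subgroup.coe_mul, xx_coe]
    exact mk_coe sg_mem n
  rw [e]
  have hn' : n = 0 ∨ n = 1 ∨ n = 2 := by omega
  rcases hn' with rfl | rfl | rfl
  · exact conj_X3_of_perm (y := sg * x3 ^ 0) (p := cy [1, 3] * cy [2, 6] * cy [5, 7] * cy [9, 10]) _
      (by rw [mem_alternatingGroup]; decide +kernel) (by decide +kernel)
  · exact conj_X3_of_perm (y := sg * x3 ^ 1) (p := cy [1, 4, 5, 6, 2, 8, 7, 3] * cy [9, 10]) _
      (by rw [mem_alternatingGroup]; decide +kernel) (by decide +kernel)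
  · exact conj_X3_of_perm (y := sg * x3 ^ 2) (p := cy [1, 5, 8, 6, 2, 7, 4, 3] * cy [9, 10]) _
      (by rw [mem_alternatingGroup]; decide +kernel) (by decide +kernel)

theorem dd_good (n : ℕ) (hn : n < 3) : Good ((dd * xx ^ n : MM) : G) := by
  have e : ((dd * xx ^ n : MM) : G) = Φ ⟨x1 * x3 ^ n, mul_mem x1_mem (pow_mem x3_mem n)⟩ := by
    rw [Subgroup.coe_mul, xx_coe]
    exact mk_coe x1_mem n
  rw [e]
  have hn' : n = 0 ∨ n = 1 ∨ n = 2 := by omega
  rcases hn' with rfl | rfl | rfl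
  · exact invol_of_perm (y := x1 * x3 ^ 0) (v := cy [0, 1] * cy [2, 3]) _
      (by rw [mem_alternatingGroup]; decide +kernel) (by decide +kernel) (by decide +kernel) (by decide +kernel)
  · exact invol_of_perm (y := x1 * x3 ^ 1) (v := cy [0, 3] * cy [1, 4] * cy [2, 5] * cy [6, 9] * cy [7, 10] * cy [8, 11]) _
      (by rw [mem_alternatingGroup]; decide +kernel) (by decide +kernel) (by decide +kernel) (by decide +kernel)
  · exact invol_of_perm (y := x1 * x3 ^ 2) (v := cy [0, 3] * cy [1, 4] * cy [2, 5] * cy [6, 9] * cy [7, 11] * cy [8, 10]) _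
      (by rw [mem_alternatingGroup]; decide +kernel) (by decide +kernel) (by decide +kernel) (by decide +kernel)

/-- `X1` and `X3` are not conjugate -/
theorem not_conj {c : G} (h : c * X3 * c⁻¹ = X1) : False := by
  have hone := one_of_T1 t1_x3
  let v : A12 := ⟨cy [0, 1] * cy [2, 3], by rw [mem_alternatingGroup]; decide +kernel⟩
  let w : A12 := ⟨cy [0, 2] * cy [1, 3], by rw [mem_alternatingGroup]; decide +kernel⟩
  have hv : orderOf (Φ v) = 2 := orderOf_two _ (by decide +kernel) (by decide +kernel)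
  have hw : orderOf (Φ w) = 2 := orderOf_two _ (by decide +kernel) (by decide +kernel)
  have hvw : Φ v * Φ w = Φ w * Φ v := comm_of _ _ (by decide +kernel)
  have hv1 : Φ v * X1 = X1 * Φ v := comm_of _ x1_mem (by decide +kernel)
  have hw1 : Φ w * X1 = X1 * Φ w := comm_of _ x1_mem (by decide +kernel)
  have key : ∀ u : G, u * X1 = X1 * u → c⁻¹ * u * c ∈ centralizer ({X3} : Set G) := by
    intro u hu
    rw [mem_centralizer_singleton_iff]
    calc c⁻¹ * u * c * X3 = c⁻¹ * (u * (c * X3 * c⁻¹)) * c := by group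
      _ = c⁻¹ * (c * X3 * c⁻¹ * u) * c := by rw [h, hu]
      _ = _ := by group
  have ho : ∀ u : G, orderOf (c⁻¹ * u * c) = orderOf u := by
    intro u
    have := MulEquiv.orderOf_eq (MulAut.conj c⁻¹) u
    rwa [MulAut.conj_apply, inv_inv] at this
  have h1 := hone ⟨_, key _ hv1⟩ ⟨_, key _ hw1⟩ (by rw [Subgroup.orderOf_mk, ho, hv])
    (by rw [Subgroup.orderOf_mk, ho, hw]) (Subtype.ext (by
      change c⁻¹ * Φ v * c * (c⁻¹ * Φ w * c) = c⁻¹ * Φ w * c * (c⁻¹ * Φ v * c)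
      calc c⁻¹ * Φ v * c * (c⁻¹ * Φ w * c) = c⁻¹ * (Φ v * Φ w) * c := by group
        _ = c⁻¹ * (Φ w * Φ v) * c := by rw [hvw]
        _ = _ := by group))
  have h2 : c⁻¹ * Φ v * c = c⁻¹ * Φ w * c := congrArg Subtype.val h1
  have h3 : Φ v = Φ w := mul_left_cancel (mul_right_cancel h2)
  have h4 : v = w := Φ_inj h3
  have h5 := congrArg Subtype.val h4
  revert h5
  change ¬ (cy [0, 1] * cy [2, 3] : Equiv.Perm (Fin 12)) = cy [0, 2] * cy [1, 3]
  decide +kernel

theorem q_mem_E {o : MM} (ho : o ∈ OO) (h3 : o ^ 3 = 1) : q o ∈ E := ⟨⟨o, ho, rfl⟩, by rw [← map_pow, h3, map_one]⟩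

theorem order_gg : orderOf gg = 3 := by
  rw [show gg = mk sg sg_mem (by decide +kernel) from rfl, H569.HNThree.order_mk]
  exact orderOf_eq_prime (by decide +kernel) (by decide +kernel)

theorem order_dd : orderOf dd = 3 := by
  rw [show dd = mk x1 x1_mem (by decide +kernel) from rfl, H569.HNThree.order_mk]
  exact orderOf_eq_prime (by decide +kernel) (by decide +kernel)

theorem dd_E : q dd ∈ E := q_mem_E dd_mem (by rw [← order_dd, pow_orderOf_eq_one])
theorem gg_E : q gg ∈ E := q_mem_E gg_mem (by rw [← order_gg, pow_orderOf_eq_one])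

theorem not_mem_of_perm {a : Equiv.Perm (Fin 12)} (ha : a ∈ alternatingGroup (Fin 12)) (h : a * x3 = x3 * a)
    (h1 : ∀ n < 3, a ≠ x3 ^ n) : q (mk a ha h) ≠ 1 := by
  intro h2
  obtain ⟨n, hn, h3⟩ := mod_three ((QuotientGroup.eq_one_iff _).1 h2)
  have h4 : Φ ⟨a, ha⟩ = Φ ⟨x3 ^ n, pow_mem x3_mem n⟩ := by
    rw [← xx_coe, ← h3]
    rfl
  exact h1 n hn (congrArg Subtype.val (Φ_inj h4))

theorem dd_ne : q dd ≠ 1 := not_mem_of_perm x1_mem _ (by decide +kernel)
theorem gg_ne : q gg ≠ 1 := not_mem_of_perm sg_mem _ (by decide +kernel)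

theorem disj : Disjoint (Or (q dd)) (Or (q gg)) := by
  rw [Set.disjoint_left]
  rintro _ ⟨k, rfl⟩ ⟨l, hl⟩
  have h1 : q (l : MM) * q gg * (q (l : MM))⁻¹ = q (k : MM) * q dd * (q (k : MM))⁻¹ := hl
  have h2 : q (((l : MM)⁻¹ * (k : MM)) * dd * ((l : MM)⁻¹ * (k : MM))⁻¹) = q gg := by
    rw [map_mul, map_mul, map_inv, map_mul, map_inv]
    generalize (q (k : MM) : MM ⧸ zpowers xx) = a at h1 ⊢
    generalize (q (l : MM) : MM ⧸ zpowers xx) = b at h1 ⊢
    calc b⁻¹ * a * q dd * (b⁻¹ * a)⁻¹ = b⁻¹ * (a * q dd * a⁻¹) * b := by group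
      _ = b⁻¹ * (b * q gg * b⁻¹) * b := by rw [h1]
      _ = q gg := by group
  generalize (l : MM)⁻¹ * (k : MM) = m at h2
  have h3 : gg⁻¹ * (m * dd * m⁻¹) ∈ zpowers xx := QuotientGroup.eq.1 h2.symm
  obtain ⟨n, hn, h4⟩ := mod_three h3
  have h5 : m * dd * m⁻¹ = gg * xx ^ n := by rw [← h4]; group
  obtain ⟨c, hc⟩ := gg_conj n hn
  rw [← h5] at hc
  refine not_conj (c := (m : G)⁻¹ * c) ?_
  have h6 : ((m * dd * m⁻¹ : MM) : G) = (m : G) * X1 * (m : G)⁻¹ := rfl
  rw [h6] at hc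
  calc (m : G)⁻¹ * c * X3 * ((m : G)⁻¹ * c)⁻¹ = (m : G)⁻¹ * (c * X3 * c⁻¹) * (m : G) := by group
    _ = (m : G)⁻¹ * ((m : G) * X1 * (m : G)⁻¹) * (m : G) := by rw [hc]
    _ = X1 := by group

theorem union_eq : Or (q dd) ∪ Or (q gg) = (E : Set (MM ⧸ zpowers xx)) \ {1} := by
  have hfin : Finite (MM ⧸ zpowers xx) := inferInstance
  refine Set.eq_of_subset_of_ncard_le (Set.union_subset (Or_sub dd_E dd_ne) (Or_sub gg_E gg_ne)) ?_ (Set.toFinite _)
  rw [Set.ncard_union_eq disj (Set.toFinite _) (Set.toFinite _)]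
  have h1 := card_Or dd_E dd_ne
  have h2 := card_Or gg_E gg_ne
  have h3 : ((E : Set (MM ⧸ zpowers xx)) \ {1}).ncard = (E : Set (MM ⧸ zpowers xx)).ncard - 1 :=
    Set.ncard_sdiff_singleton_of_mem (one_mem E)
  have h4 : (E : Set (MM ⧸ zpowers xx)).ncard ≤ 81 := Nat.le_of_dvd (by norm_num) card_E
  omega

/-- **the elements of order three of `O(C(X3))` commute with an involution** -/
theorem good_OO {x : MM} (hx : x ∈ OO) (h3 : orderOf x = 3) : Good (x : G) := by
  have hE : q x ∈ E := q_mem_E hx (by rw [← h3, pow_orderOf_eq_one])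
  by_cases h1 : q x = 1
  · have h2 : x ∈ zpowers xx := (QuotientGroup.eq_one_iff _).1 h1
    obtain ⟨n, -, rfl⟩ := mod_three h2
    obtain ⟨t, ht, hc⟩ := good_X3
    refine ⟨t, ht, ?_⟩
    rw [Subgroup.coe_pow]
    exact ((show Commute X3 t from hc).pow_left n).eq
  · have h2 : q x ∈ Or (q dd) ∪ Or (q gg) := by
      rw [union_eq]
      exact ⟨hE, h1⟩
    have key : ∀ (k d : MM), q k * q d * (q k)⁻¹ = q x → ∃ n : ℕ, n < 3 ∧ (x : G) = (k : G) * ((d * xx ^ n : MM) : G) * (k : G)⁻¹ := by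
      intro k d h
      have h4 : q (k⁻¹ * x * k) = q d := by
        rw [map_mul, map_mul, map_inv, ← h]
        group
      have h5 : d⁻¹ * (k⁻¹ * x * k) ∈ zpowers xx := QuotientGroup.eq.1 h4.symm
      obtain ⟨n, hn, h6⟩ := mod_three h5
      refine ⟨n, hn, ?_⟩
      have h7 : x = k * (d * xx ^ n) * k⁻¹ := by rw [← h6]; group
      exact congrArg Subtype.val h7
    rcases h2 with ⟨k, hk⟩ | ⟨k, hk⟩
    · obtain ⟨n, hn, h4⟩ := key k dd hk
      rw [h4]
      exact (dd_good n hn).conj _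
    · obtain ⟨n, hn, h4⟩ := key k gg hk
      rw [h4]
      obtain ⟨c, hc⟩ := gg_conj n hn
      rw [← hc]
      exact (good_X3.conj c).conj _

/-! ### the row -/

theorem noS3_PP : NoS3 ↥PP := by
  have h : Nat.card PP = 3686400 := card_PP
  refine Cfsg.Agent.H473.SN.noS3_card ?_ ?_ ?_ <;>
  · rw [h]
    norm_num

/-- an element commuting with an involution -/
theorem false_of_good {x : G} (hx : orderOf x = 3) (hR : RN (MulAut.conj x)) (h : Good x) : False := by
  obtain ⟨t, ht, hc⟩ := h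
  obtain ⟨s, hs, hxs⟩ := exists_two hx ht hc
  obtain ⟨g, hg⟩ := isConj_iff.1 hs
  refine Cfsg.Agent.H473.SN.false_of_mem (x := g * x * g⁻¹) (order_conj hx g) (Cfsg.Agent.H473.SN.rn_conj hR g) noS3_PP ?_
    radFree_PP
  rw [mem_PP, ← hg]
  calc g * x * g⁻¹ * (g * s * g⁻¹) = g * (x * s) * g⁻¹ := by group
    _ = g * (s * x) * g⁻¹ := by rw [hxs]
    _ = _ := by group

theorem false_of_rn {x : G} (hx : orderOf x = 3) (hR : RN (MulAut.conj x)) : False := by
  have : Fact (Nat.Prime 3) := ⟨Nat.prime_three⟩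
  obtain ⟨g, hg⟩ := H749.exists_conj_mem MM index_X3 (x := x) ⟨1, by rw [pow_one, ← hx, pow_orderOf_eq_one]⟩
  have hR' := Cfsg.Agent.H473.SN.rn_conj hR g
  have hx' : orderOf (g * x * g⁻¹) = 3 := order_conj hx g
  generalize g * x * g⁻¹ = z at hg hR' hx'
  have hz : orderOf (⟨z, hg⟩ : MM) = 3 := by rw [Subgroup.orderOf_mk, hx']
  exact false_of_good hx' hR' (good_OO (mem_OO hz (Cfsg.Agent.H473.SN.mem_rad hR' noS3_MM hg)) hz)

theorem g3_model : G3 Spor.HN :=
  Cfsg.Agent.H473.SN.g3_of_inn center_G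
    (fun x hx => Cfsg.Agent.CpAutHN.Main.autInner 3 (by norm_num) (by norm_num) x hx) fun _ hx _ hR => false_of_rn hx hR

/-- **S3831, order three, HN** -/
theorem g3_hn {K : Type*} [Group K] [Finite K] [IsSimpleGroup K] (h : Spor.IsoHN K) : G3 K := by
  obtain ⟨e⟩ := h
  exact G3.congr e g3_model

end Cfsg.Agent.H991.SN.HN
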