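import Cfsg.Agent.H473.SN.Base
import Cfsg.Agent.SmallSimple.S1000.PSUFacts

/-!
# S3831: the alternating group `A₉` has no sections `L₃(3)`, `U₃(3)`, `PSp₄(3)` (helper991)

* `exists_eight` : `U₃(3)` has an element of order eight;
* `order_ne_eight` : `A₉` has none;
* `noS3_A9`.
-/

set_option autoImplicit false

namespace Cfsg.Agent.H991.SN

open Subgroup Cfsg Matrix Cfsg.Agent.H459.Rad Cfsg.Agent.H21.SN
open Cfsg.Agent.SmallSimple.S1000.PSUFacts (hermForm_three eD eD_mem eP eP_mem mD mP)

section Eight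

variable {F : Type*} [Field F]

/-- a monomial matrix of order eight -/
def mE (i : F) : Matrix (Fin 3) (Fin 3) F := !![0, i, 0; 1, 0, 0; 0, 0, i]

theorem det_mE {i : F} (hi : -1 = i * i) : (mE i).det = 1 := by
  rw [mE, Matrix.det_fin_three]
  simp
  linear_combination hi

/-- the element of `SL₃` -/
def eE {i : F} (hi : -1 = i * i) : SpecialLinearGroup (Fin 3) F := ⟨mE i, det_mE hi⟩

theorem eE_mem {i : F} (hi : -1 = i * i) : eE hi ∈ SU 3 F 3 := by
  rw [LieClassical.FieldTransfer.mem_SU_iff]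
  intro u v
  rw [hermForm_three, hermForm_three]
  simp [eE, mE, Matrix.mulVec, dotProduct, Fin.sum_univ_three]
  linear_combination (-(i ^ 2 - 1) * (u 1 * v 1 ^ 3 + u 2 * v 2 ^ 3)) * hi

theorem eE_four {i : F} (hi : -1 = i * i) : eE hi ^ 4 = eD := by
  apply Subtype.ext
  have e : (4 : ℕ) = 2 + 2 := rfl
  rw [e, pow_add, pow_two]
  show mE i * mE i * (mE i * mE i) = mD
  have h1 : mE i * mE i = !![i, 0, 0; 0, i, 0; 0, 0, -1] := by
    rw [mE, Matrix.mul_fin_three]
    ext a b
    fin_cases a <;> fin_cases b <;> simp [← hi]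
  rw [h1, mD, Matrix.mul_fin_three]
  ext a b
  fin_cases a <;> fin_cases b <;> simp [← hi]

theorem eD_sq : (eD : SpecialLinearGroup (Fin 3) F) ^ 2 = 1 := by
  apply Subtype.ext
  rw [pow_two]
  show mD * mD = 1
  rw [mD, Matrix.mul_fin_three]
  ext a b
  fin_cases a <;> fin_cases b <;> simp

theorem eD_eP (h2 : (-1 : F) ≠ 1) : (eD : SpecialLinearGroup (Fin 3) F) * eP ≠ eP * eD := by
  intro h
  have h1 : mD * mP = mP * (mD : Matrix (Fin 3) (Fin 3) F) := congrArg Subtype.val h
  rw [mD, mP, Matrix.mul_fin_three, Matrix.mul_fin_three] at h1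
  have h3 := congrFun (congrFun h1 0) 2
  simp at h3
  exact h2 h3

/-- **`U₃(3)` has an element of order eight** -/
theorem exists_eight [Fintype F] (hF : Fintype.card F = 9) : ∃ g : PSU 3 F 3, g ^ 8 = 1 ∧ g ^ 4 ≠ 1 := by
  obtain ⟨i, hi⟩ : IsSquare (-1 : F) := by
    rw [FiniteField.isSquare_neg_one_iff, hF]
    norm_num
  have h3 : (3 : F) = 0 := by
    have h9 : ((9 : ℕ) : F) = 0 := by rw [← hF, Nat.cast_card_eq_zero]
    have h9' : (3 : F) * 3 = 0 := by
      rw [← h9]; norm_num
    rcases mul_eq_zero.mp h9' with h | h <;> exact h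
  have h2 : (-1 : F) ≠ 1 := by
    intro h
    have h4 : (1 : F) = 0 := by linear_combination h3 + h
    exact one_ne_zero h4
  let e : SU 3 F 3 := ⟨eE hi, eE_mem hi⟩
  let d : SU 3 F 3 := ⟨eD, eD_mem⟩
  let p : SU 3 F 3 := ⟨eP, eP_mem⟩
  have h4 : e ^ 4 = d := Subtype.ext (eE_four hi)
  have h8 : e ^ 8 = 1 := by
    have : e ^ 8 = d ^ 2 := by rw [← h4, ← pow_mul]
    rw [this]
    exact Subtype.ext eD_sq
  refine ⟨QuotientGroup.mk e, ?_, ?_⟩
  · rw [← QuotientGroup.mk_pow, h8, QuotientGroup.mk_one]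
  · rw [← QuotientGroup.mk_pow, h4, Ne, QuotientGroup.eq_one_iff, mem_center_iff]
    intro h
    have h5 : p * d = d * p := h p
    exact eD_eP h2 (congrArg Subtype.val h5).symm

end Eight

/-- **no element of order eight in `A₉`** -/
theorem order_ne_eight (σ : alternatingGroup (Fin 9)) : orderOf σ ≠ 8 := by
  intro h
  have h1 : orderOf (σ : Equiv.Perm (Fin 9)) = 8 := by rw [Subgroup.orderOf_coe, h]
  have hs : Equiv.Perm.sign (σ : Equiv.Perm (Fin 9)) = 1 := Equiv.Perm.mem_alternatingGroup.1 σ.2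
  generalize (σ : Equiv.Perm (Fin 9)) = τ at h1 hs
  have hlcm : τ.cycleType.lcm = 8 := by rw [Equiv.Perm.lcm_cycleType, h1]
  have hsum : τ.cycleType.sum ≤ 9 := by
    rw [Equiv.Perm.sum_cycleType]
    exact (Finset.card_le_univ _).trans (by simp)
  have hdvd : ∀ n ∈ τ.cycleType, n ∣ 8 := fun n hn => hlcm ▸ Multiset.dvd_lcm hn
  have h8 : 8 ∈ τ.cycleType := by
    by_contra h8
    have h2 : τ.cycleType.lcm ∣ 4 := by
      rw [Multiset.lcm_dvd]
      intro n hn
      have h3 := hdvd n hn
      have h4 : n ∈ Nat.divisors 8 := Nat.mem_divisors.2 ⟨h3, by norm_num⟩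
      have h5 : Nat.divisors 8 = {1, 2, 4, 8} := by decide
      rw [h5] at h4
      simp only [Finset.mem_insert, Finset.mem_singleton] at h4
      rcases h4 with rfl | rfl | rfl | rfl
      · norm_num
      · norm_num
      · norm_num
      · exact absurd hn h8
    rw [hlcm] at h2
    exact absurd h2 (by norm_num)
  obtain ⟨s, hs8⟩ := Multiset.exists_cons_of_mem h8
  have hs0 : s = 0 := by
    rw [hs8, Multiset.sum_cons] at hsum
    by_contra hne
    obtain ⟨n, hn⟩ := Multiset.exists_mem_of_ne_zero hne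
    have h2 : 2 ≤ n := Equiv.Perm.two_le_of_mem_cycleType (by rw [hs8]; exact Multiset.mem_cons_of_mem hn)
    have h3 : n ≤ s.sum := Multiset.single_le_sum (fun _ _ => Nat.zero_le _) n hn
    omega
  rw [Equiv.Perm.sign_of_cycleType, hs8, hs0] at hs
  revert hs
  decide

theorem card_A9 : Nat.card (alternatingGroup (Fin 9)) = 181440 := by
  rw [nat_card_alternatingGroup, Nat.card_fin]
  decide +kernel

/-- **`A₉` has no sections `L₃(3)`, `U₃(3)`, `PSp₄(3)`** -/
theorem noS3_A9 : NoS3 (alternatingGroup (Fin 9)) := by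
  have hsimp : IsSimpleGroup (alternatingGroup (Fin 9)) := alternatingGroup.isSimpleGroup (by simp)
  intro M L _ f hf hS
  have h0 : Nat.card L ∣ Nat.card M := Subgroup.card_dvd_of_surjective f hf
  have hM : Nat.card M ∣ 181440 := card_A9 ▸ Subgroup.card_subgroup_dvd_card M
  obtain ⟨-, -, h⟩ := hS
  rcases h with ⟨F, _, _, hF, ⟨e⟩⟩ | ⟨F, _, _, hF, ⟨e⟩⟩ | ⟨F, _, _, hF, ⟨e⟩⟩
  · rw [Nat.card_congr e.toEquiv, SmallSimple.PSLFacts.card_psl_three_three hF] at h0
    exact absurd (h0.trans hM) (by norm_num)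
  · -- an element of order eight
    obtain ⟨g, hg8, hg4⟩ := exists_eight hF
    have ho : orderOf g = 2 ^ 3 := by
      have : Fact (Nat.Prime 2) := ⟨Nat.prime_two⟩
      exact orderOf_eq_prime_pow (by norm_num; exact hg4) (by norm_num; exact hg8)
    obtain ⟨m, hm⟩ := hf (e.symm g)
    have ho' : orderOf (f m) = 8 := by
      rw [hm, MulEquiv.orderOf_eq, ho]
      norm_num
    have hd : 8 ∣ orderOf m := ho' ▸ orderOf_map_dvd f m
    have hpos : orderOf m ≠ 0 := (orderOf_pos m).ne'
    have h1 : orderOf (m ^ (orderOf m / 8)) = 8 := by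
      rw [orderOf_pow_of_dvd ?_ (Nat.div_dvd_of_dvd hd), Nat.div_div_self hd hpos]
      intro h
      rw [Nat.div_eq_zero_iff] at h
      rcases h with h | h
      · norm_num at h
      · exact absurd (Nat.le_of_dvd (Nat.pos_of_ne_zero hpos) hd) (by omega)
    exact order_ne_eight ((m ^ (orderOf m / 8) : M) : alternatingGroup (Fin 9)) (by rw [Subgroup.orderOf_coe, h1])
  · -- index at most seven
    have hL : Nat.card L = 25920 := by
      rw [Nat.card_congr e.toEquiv, SmallSimple.PSLFacts.card_psp_two_three hF]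
    rw [hL] at h0
    obtain ⟨k, hk⟩ := h0
    have h1 := M.card_mul_index
    rw [card_A9, hk] at h1
    have h2 : k * M.index = 7 := by
      have : 25920 * (k * M.index) = 25920 * 7 := by rw [← mul_assoc, h1]
      exact Nat.eq_of_mul_eq_mul_left (by norm_num) this
    have h3 : M.index ≤ 7 := by
      rcases Nat.eq_zero_or_pos k with rfl | hk0
      · rw [zero_mul] at h2
        omega
      · nlinarith
    rcases (inferInstance : M.normalCore.Normal).eq_bot_or_eq_top with hc | hc
    · have h4 : Nat.card (alternatingGroup (Fin 9)) ∣ Nat.card (Equiv.Perm (alternatingGroup (Fin 9) ⧸ M)) := by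
        refine Subgroup.card_dvd_of_injective (MulAction.toPermHom (alternatingGroup (Fin 9))
          (alternatingGroup (Fin 9) ⧸ M)) ?_
        rw [← MonoidHom.ker_eq_bot_iff, ← Subgroup.normalCore_eq_ker, hc]
      rw [card_A9, Nat.card_perm] at h4
      have h5 : 181440 ∣ Nat.factorial 7 := h4.trans (Nat.factorial_dvd_factorial h3)
      exact absurd h5 (by decide)
    · have hMt : M = ⊤ := top_le_iff.1 (hc ▸ Subgroup.normalCore_le M)
      subst hMt
      have h4 := (Subgroup.card_top (G := alternatingGroup (Fin 9)))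
      rw [card_A9, hk] at h4
      have h5 : f.ker.Normal := inferInstance
      let j : alternatingGroup (Fin 9) →* L := f.comp (Subgroup.topEquiv.symm.toMonoidHom)
      have hj : Function.Surjective j := hf.comp (MulEquiv.surjective _)
      rcases (inferInstance : j.ker.Normal).eq_bot_or_eq_top with h6 | h6
      · have h7 : Nat.card (alternatingGroup (Fin 9)) = Nat.card L :=
          Nat.card_congr (Equiv.ofBijective j ⟨(MonoidHom.ker_eq_bot_iff j).1 h6, hj⟩)
        rw [card_A9, hL] at h7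
        exact absurd h7 (by norm_num)
      · have h7 : ∀ l : L, l = 1 := by
          intro l
          obtain ⟨a, rfl⟩ := hj l
          have : a ∈ j.ker := by rw [h6]; exact mem_top a
          exact MonoidHom.mem_ker.1 this
        have h8 : Nat.card L = 1 := by
          rw [Nat.card_eq_one_iff_unique]
          exact ⟨⟨fun a b => by rw [h7 a, h7 b]⟩, ⟨1⟩⟩
        rw [hL] at h8
        exact absurd h8 (by norm_num)

end Cfsg.Agent.H991.SN
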